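import Groth.Agent.HartogsPicLib.Main
import Groth.Agent.AlgEqFamLib.Alg
import Groth.Agent.FixAmpleLib.Main
import Groth.Agent.S1561

/-!
Translations by a connected group fix the classes algebraically equivalent to zero on a normal variety.
-/

set_option autoImplicit false
set_option linter.style.haveILetI false
set_option backward.isDefEq.respectTransparency false
set_option maxRecDepth 8000
set_option maxHeartbeats 1000000

noncomputable section

universe u

open CategoryTheory CategoryTheory.Limits MonoidalCategory CartesianMonoidalCategory AlgebraicGeometry TopologicalSpace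
open scoped MonObj
open CubeConsLib (PicA pullA clA clA_eq_iff pullA_clA clA_one isInvertible_one)
open SquareLib (pb pb_mem pb_comp pb_id clA_mem E)

namespace TranslPic

variable {k : Type u} [Field k] [IsAlgClosed k] {G X : Over (Spec (CommRingCat.of k))} [GrpObj G]
  [LocallyOfFiniteType G.hom] [QuasiCompact G.hom] [ConnectedSpace G.left] [IsProper X.hom] [IsIntegral X.left]

local notation "pt₁" => 𝟙_ (Over (Spec (CommRingCat.of k)))

theorem transl_eq (hXn : Pi1.IsNormalScheme X.left) (a : AlgGrp.Action G X) (g : pt₁ ⟶ G) {L : X.left.Modules}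
    (hL : PicF.IsInvertible L) (h0 : @Pic13.IsAlgEquivZero k _ X.left ⟨X.hom⟩ L) :
    pb (lift (toUnit X ≫ g) (𝟙 X) ≫ a.act) (clA hL) = clA hL := by
  letI : X.left.Over (Spec (CommRingCat.of k)) := ⟨X.hom⟩
  obtain ⟨T, q, hc, hlft, hqc, M, hM, t, t₀, ht, ht₀, e, e₀⟩ := h0
  let T' : Over (Spec (CommRingCat.of k)) := Over.mk q
  haveI : ConnectedSpace T'.left := hc
  haveI : LocallyOfFiniteType T'.hom := hlft
  haveI : QuasiCompact T'.hom := hqc
  let M' : (X ⊗ T').left.Modules := M
  have hM' : PicF.IsInvertible M' := hM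
  let p : pt₁ ⟶ T' := Over.homMk t ht
  let p₀ : pt₁ ⟶ T' := Over.homMk t₀ ht₀
  have h1 : AlgEqFam.sl X p (clA hM') = clA hL := (AlgEqFam.sl_clA p hM' ht hL).2 e
  have h2 : AlgEqFam.sl X p₀ (clA hM') = 0 := by
    rw [← clA_one]
    exact (AlgEqFam.sl_clA p₀ hM' ht₀ (isInvertible_one _)).2 e₀
  haveI : IsLocallyNoetherian X.left := LocallyOfFiniteType.isLocallyNoetherian X.hom
  haveI : LocallyOfFinitePresentation X.hom := LocallyOfFinitePresentation.iff_locallyOfFiniteType.2 inferInstance
  haveI : LocallyOfFinitePresentation (X.left ↘ Spec (CommRingCat.of k)) :=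
    inferInstanceAs (LocallyOfFinitePresentation X.hom)
  let V : X.left.Opens := X.hom.smoothLocus
  have hV : ∀ y : X.left, Order.coheight y ≤ 1 → y ∈ V := fun y hy => by
    refine ((Groth.Agent.S1561.result k X.left).1 y).2 ?_
    haveI := (hXn y).1
    haveI := (hXn y).2
    refine MiscFlat6.isRegularLocalRing_of_normal_dim_le_one _ ?_
    rw [AlgebraicGeometry.ringKrullDim_stalk_eq_coheight]
    exact WithBot.coe_le_coe.2 hy
  have hη : genericPoint X.left ∈ V := X.hom.genericPoint_mem_smoothLocus_of_perfectField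
  let U : Over (Spec (CommRingCat.of k)) := Over.mk (V.ι ≫ X.hom)
  let ιU : U ⟶ X := Over.homMk V.ι rfl
  haveI : Smooth U.hom := by
    haveI : LocallyOfFinitePresentation (V.ι ≫ X.hom) := inferInstance
    haveI : LocallyOfFinitePresentation U.hom := inferInstanceAs (LocallyOfFinitePresentation (V.ι ≫ X.hom))
    refine Scheme.Hom.smoothLocus_eq_top_iff.1 ?_
    show (V.ι ≫ X.hom).smoothLocus = ⊤
    rw [← Scheme.Hom.preimage_smoothLocus_eq]
    exact Scheme.Opens.ι_preimage_self V
  haveI : IsIntegral U.left := by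
    haveI : Nonempty U.left := ⟨⟨_, hη⟩⟩
    exact isIntegral_of_isOpenImmersion V.ι
  haveI : GeometricallyIntegral U.hom := AlbLib.geometricallyIntegral_of_isIntegral U
  let φ : (G ⊗ T') ⊗ U ⟶ X ⊗ T' :=
    lift (lift (fst (G ⊗ T') U ≫ fst G T') (snd (G ⊗ T') U ≫ ιU) ≫ a.act) (fst (G ⊗ T') U ≫ snd G T')
  have hE : ∀ (x : pt₁ ⟶ G) (s : pt₁ ⟶ T'), E (pb φ (clA hM')) x s =
      pb ιU (pb (lift (toUnit X ≫ x) (𝟙 X) ≫ a.act) (AlgEqFam.sl X s (clA hM'))) := fun x s => by
    rw [E, AlgEqFam.sl, pb_comp, pb_comp, pb_comp]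
    congr 2
    apply CartesianMonoidalCategory.hom_ext
    · simp only [φ, Category.assoc, comp_lift, comp_lift_assoc, lift_fst, lift_snd, lift_fst_assoc, lift_snd_assoc,
        Category.comp_id, Category.id_comp]
      rw [← Category.assoc ιU (toUnit X) x, toUnit_unique (ιU ≫ toUnit X) (toUnit U)]
    · simp only [φ, Category.assoc, comp_lift, comp_lift_assoc, lift_fst, lift_snd, lift_fst_assoc, lift_snd_assoc,
        Category.comp_id, Category.id_comp]
      simp only [← Category.assoc]
      congr 1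
      exact toUnit_unique _ _
  have hone : lift (toUnit X ≫ (1 : pt₁ ⟶ G)) (𝟙 X) ≫ a.act = 𝟙 X := by
    rw [MonObj.comp_one]; exact FixAmple.lift_one_act a _
  have hsq := SquareLib.square_linked (pb_mem φ (clA_mem hM')) (W := U)
    (SquareLib.linked_connected G g 1) (SquareLib.linked_connected T' p p₀)
  rw [hE, hE, hE, hE, hone, h1, h2] at hsq
  simp only [map_zero, pb_id, add_zero, zero_add] at hsq
  have hd : pb ιU (pb (lift (toUnit X ≫ g) (𝟙 X) ≫ a.act) (clA hL) - clA hL) = 0 := by
    rw [map_sub, hsq, sub_self]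
  obtain ⟨D, hD, hDe⟩ := sub_mem (pb_mem (lift (toUnit X ≫ g) (𝟙 X) ≫ a.act) (clA_mem hL)) (clA_mem hL)
  rw [← hDe] at hd
  change pullA V.ι (clA hD) = 0 at hd
  rw [pullA_clA, ← clA_one, clA_eq_iff] at hd
  have h := (clA_eq_iff hD (isInvertible_one _)).2
    (HartogsPic.trivial_of_restrict hXn hη (fun y hy => hV y hy.le) hD hd)
  rw [hDe, clA_one, sub_eq_zero] at h
  exact h

end TranslPic

end
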